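import Groth.Prelude.Def_Red
import Mathlib

/-!
Points congruent to the unit modulo a square zero ideal commute.
-/

set_option autoImplicit false
set_option backward.isDefEq.respectTransparency false

noncomputable section

universe u

open CategoryTheory CategoryTheory.Limits MonoidalCategory CartesianMonoidalCategory AlgebraicGeometry
open scoped MonObj

namespace Groth.Agent.SqKer

variable {R : Type u} [CommRing R] {X : Over (Spec (CommRingCat.of R))} [GrpObj X]
  {B : Type u} [CommRing B]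

/-- Triples in `B` congruent modulo `I`. -/
def triples (I : Ideal B) : Subring (B × B × B) where
  carrier := {t | t.2.1 - t.1 ∈ I ∧ t.2.2 - t.1 ∈ I}
  mul_mem' := by
    rintro a b ⟨ha₁, ha₂⟩ ⟨hb₁, hb₂⟩
    refine ⟨?_, ?_⟩
    · have e : (a * b).2.1 - (a * b).1 = (a.2.1 - a.1) * b.2.1 + a.1 * (b.2.1 - b.1) := by
        simp only [Prod.fst_mul, Prod.snd_mul]; ring
      rw [e]; exact I.add_mem (I.mul_mem_right _ ha₁) (I.mul_mem_left _ hb₁)
    · have e : (a * b).2.2 - (a * b).1 = (a.2.2 - a.1) * b.2.2 + a.1 * (b.2.2 - b.1) := by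
        simp only [Prod.fst_mul, Prod.snd_mul]; ring
      rw [e]; exact I.add_mem (I.mul_mem_right _ ha₂) (I.mul_mem_left _ hb₂)
  one_mem' := by simp
  add_mem' := by
    rintro a b ⟨ha₁, ha₂⟩ ⟨hb₁, hb₂⟩
    exact ⟨by simpa [add_sub_add_comm] using I.add_mem ha₁ hb₁,
      by simpa [add_sub_add_comm] using I.add_mem ha₂ hb₂⟩
  zero_mem' := by simp
  neg_mem' := by
    rintro a ⟨ha₁, ha₂⟩
    exact ⟨by simpa [neg_sub_neg, sub_eq_add_neg, add_comm] using I.neg_mem ha₁,
      by simpa [neg_sub_neg, sub_eq_add_neg, add_comm] using I.neg_mem ha₂⟩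

variable {I : Ideal B}

/-- The first projection of a triple. -/
def p0 : triples I →+* B := (RingHom.fst B (B × B)).comp (triples I).subtype

/-- The second projection of a triple. -/
def p1 : triples I →+* B := ((RingHom.fst B B).comp (RingHom.snd B (B × B))).comp (triples I).subtype

/-- The third projection of a triple. -/
def p2 : triples I →+* B := ((RingHom.snd B B).comp (RingHom.snd B (B × B))).comp (triples I).subtype

theorem triples_ext {a b : triples I} (h0 : p0 a = p0 b) (h1 : p1 a = p1 b) (h2 : p2 a = p2 b) : a = b :=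
  Subtype.ext (Prod.ext h0 (Prod.ext h1 h2))

variable (hI : ∀ a ∈ I, ∀ b ∈ I, a * b = 0)

/-- The sum of the two increments of a triple. -/
def total : triples I →+* B where
  toFun t := p1 t + p2 t - p0 t
  map_one' := by simp
  map_mul' a b := by
    simp only [map_mul]
    simp only [p0, p1, p2, RingHom.comp_apply, RingHom.coe_fst, RingHom.coe_snd, Subring.coe_subtype]
    linear_combination -(hI _ a.2.1 _ b.2.2) - (hI _ a.2.2 _ b.2.1)
  map_zero' := by simp
  map_add' a b := by simp only [map_add]; ring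

include hI

theorem surjective_p0 : Surjective (Spec.map (CommRingCat.ofHom (p0 (I := I)))) := by
  constructor
  intro x
  obtain ⟨y, hy⟩ : x ∈ Set.range (PrimeSpectrum.comap (p0 (I := I))) := by
    rw [range_comap_of_surjective (R := triples I) (S := B) _ (fun b => ⟨⟨(b, b, b), by simp, by simp⟩, rfl⟩)]
    refine (PrimeSpectrum.mem_zeroLocus _ _).mpr ?_
    intro t ht
    have ht' : t.1.1 = 0 := ht
    have h1 : t.1.2.1 ∈ I := by simpa [ht'] using t.2.1
    have h2 : t.1.2.2 ∈ I := by simpa [ht'] using t.2.2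
    have : t * t = 0 := Subtype.ext (Prod.ext (by simp [ht']) (Prod.ext (hI _ h1 _ h1) (hI _ h2 _ h2)))
    exact x.isPrime.mem_of_pow_mem 2 (by rw [pow_two, this]; exact zero_mem _)
  exact ⟨y, hy⟩

theorem surjective_quotient : Surjective (Spec.map (CommRingCat.ofHom (Ideal.Quotient.mk I))) := by
  constructor
  intro x
  obtain ⟨y, hy⟩ : x ∈ Set.range (PrimeSpectrum.comap (Ideal.Quotient.mk I)) := by
    rw [range_comap_of_surjective (R := B) (S := B ⧸ I) _ Ideal.Quotient.mk_surjective, Ideal.mk_ker]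
    refine (PrimeSpectrum.mem_zeroLocus _ _).mpr fun r hr => ?_
    exact x.isPrime.mem_of_pow_mem 2 (by rw [pow_two, hI r hr r hr]; exact zero_mem _)
  exact ⟨y, hy⟩

omit hI

/-- A ring as a scheme over `R`. -/
abbrev sp {C : Type u} [CommRing C] (ρ : R →+* C) : Over (Spec (CommRingCat.of R)) :=
  Over.mk (Spec.map (CommRingCat.ofHom ρ))

/-- A morphism of rings over `R` as a morphism of schemes over `R`. -/
abbrev spMap {C D : Type u} [CommRing C] [CommRing D] {ρ : R →+* C} {ρ' : R →+* D} (f : C →+* D)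
    (h : f.comp ρ = ρ') : sp ρ' ⟶ sp ρ :=
  Over.homMk (Spec.map (CommRingCat.ofHom f)) (by
    show Spec.map _ ≫ Spec.map _ = Spec.map _
    rw [← Spec.map_comp, ← CommRingCat.ofHom_comp, h])

theorem comp_point {A : CommRingCat.{u}} {f : Spec A ⟶ X.left} {C : Type u} [CommRing C] {ρ : R →+* C}
    (a : A ⟶ CommRingCat.of C) (σ : R →+* A) (hσ : Spec.map (CommRingCat.ofHom σ) = f ≫ X.hom)
    (h : a.hom.comp σ = ρ) : (Spec.map a ≫ f) ≫ X.hom = (sp ρ).hom := by
  rw [Category.assoc, ← hσ, ← Spec.map_comp, ← h]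
  rfl

include hI

theorem comm_local (ρ : R →+* B) (g g' : sp ρ ⟶ X) (W : X.left.Opens) (hW : IsAffineOpen W)
    (hr : Set.range (1 : sp ρ ⟶ X).left.base ⊆ W)
    (hg : Spec.map (CommRingCat.ofHom (Ideal.Quotient.mk I)) ≫ g.left =
      Spec.map (CommRingCat.ofHom (Ideal.Quotient.mk I)) ≫ (1 : sp ρ ⟶ X).left)
    (hg' : Spec.map (CommRingCat.ofHom (Ideal.Quotient.mk I)) ≫ g'.left =
      Spec.map (CommRingCat.ofHom (Ideal.Quotient.mk I)) ≫ (1 : sp ρ ⟶ X).left) :
    g * g' = g' * g := by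
  let q := Spec.map (CommRingCat.ofHom (Ideal.Quotient.mk I))
  let σ : R →+* Γ(X.left, W) := (Spec.preimage (hW.fromSpec ≫ X.hom)).hom
  have hσ : Spec.map (CommRingCat.ofHom σ) = hW.fromSpec ≫ X.hom := Spec.map_preimage _
  haveI := surjective_quotient hI
  haveI := surjective_p0 hI
  have pts : ∀ k : sp ρ ⟶ X, q ≫ k.left = q ≫ (1 : sp ρ ⟶ X).left →
      ∃ a : Γ(X.left, W) ⟶ CommRingCat.of B, Spec.map a ≫ hW.fromSpec = k.left ∧ a.hom.comp σ = ρ ∧
        a ≫ CommRingCat.ofHom (Ideal.Quotient.mk I) =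
          Spec.preimage (IsOpenImmersion.lift hW.fromSpec (1 : sp ρ ⟶ X).left (hW.range_fromSpec ▸ hr)) ≫
            CommRingCat.ofHom (Ideal.Quotient.mk I) := by
    intro k hk
    have hrk : Set.range k.left.base ⊆ Set.range hW.fromSpec.base := by
      rintro _ ⟨y, rfl⟩
      obtain ⟨y', rfl⟩ := q.surjective y
      show (q ≫ k.left) y' ∈ _
      rw [hk, Scheme.Hom.comp_apply, hW.range_fromSpec]
      exact hr ⟨_, rfl⟩
    refine ⟨Spec.preimage (IsOpenImmersion.lift hW.fromSpec k.left hrk), ?_, ?_, ?_⟩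
    · rw [Spec.map_preimage, IsOpenImmersion.lift_fac]
    · refine congrArg CommRingCat.Hom.hom (Spec.map_injective (a₁ := CommRingCat.ofHom σ ≫ _) (a₂ := CommRingCat.ofHom ρ) ?_)
      rw [Spec.map_comp, Spec.map_preimage, hσ, IsOpenImmersion.lift_fac_assoc]
      exact Over.w k
    · refine Spec.map_injective ?_
      rw [Spec.map_comp, Spec.map_comp, Spec.map_preimage, Spec.map_preimage, ← cancel_mono hW.fromSpec,
        Category.assoc, Category.assoc, IsOpenImmersion.lift_fac, IsOpenImmersion.lift_fac]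
      exact hk
  obtain ⟨a, ha, haσ, haI⟩ := pts g hg
  obtain ⟨a', ha', haσ', haI'⟩ := pts g' hg'
  obtain ⟨e, he, heσ, heI⟩ := pts 1 rfl
  have hd : ∀ x, a.hom x - e.hom x ∈ I := fun x =>
    (Ideal.Quotient.mk_eq_mk_iff_sub_mem _ _).mp (ConcreteCategory.congr_hom (haI.trans heI.symm) x)
  have hd' : ∀ x, a'.hom x - e.hom x ∈ I := fun x =>
    (Ideal.Quotient.mk_eq_mk_iff_sub_mem _ _).mp (ConcreteCategory.congr_hom (haI'.trans heI.symm) x)
  let ρC : R →+* triples I := (RingHom.prod ρ (RingHom.prod ρ ρ)).codRestrict _ fun r => ⟨by simp, by simp⟩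
  let c1 : Γ(X.left, W) →+* triples I :=
    (RingHom.prod e.hom (RingHom.prod a.hom e.hom)).codRestrict _ fun x => ⟨hd x, by simp⟩
  let c2 : Γ(X.left, W) →+* triples I :=
    (RingHom.prod e.hom (RingHom.prod e.hom a'.hom)).codRestrict _ fun x => ⟨by simp, hd' x⟩
  have hc : ∀ (c : Γ(X.left, W) →+* triples I), (p0.comp c).comp σ = ρ → (p1.comp c).comp σ = ρ →
      (p2.comp c).comp σ = ρ → c.comp σ = ρC := fun c h0 h1 h2 => RingHom.ext fun r =>
    triples_ext (RingHom.congr_fun h0 r) (RingHom.congr_fun h1 r) (RingHom.congr_fun h2 r)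
  let G1 : sp ρC ⟶ X := Over.homMk (Spec.map (CommRingCat.ofHom c1) ≫ hW.fromSpec)
    (comp_point (CommRingCat.ofHom c1) σ hσ (hc c1 heσ haσ heσ))
  let G2 : sp ρC ⟶ X := Over.homMk (Spec.map (CommRingCat.ofHom c2) ≫ hW.fromSpec)
    (comp_point (CommRingCat.ofHom c2) σ hσ (hc c2 heσ heσ haσ'))
  let P0 : sp ρ ⟶ sp ρC := spMap p0 rfl
  let P1 : sp ρ ⟶ sp ρC := spMap p1 rfl
  let P2 : sp ρ ⟶ sp ρC := spMap p2 rfl
  let T : sp ρ ⟶ sp ρC := spMap (total hI) (RingHom.ext fun r => show ρ r + ρ r - ρ r = ρ r by ring)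
  have eval : ∀ (P : sp ρ ⟶ sp ρC) (p : triples I →+* B) (_ : P.left = Spec.map (CommRingCat.ofHom p))
      (c : Γ(X.left, W) →+* triples I) (G : sp ρC ⟶ X) (_ : G.left = Spec.map (CommRingCat.ofHom c) ≫ hW.fromSpec)
      (k : sp ρ ⟶ X) (b : Γ(X.left, W) ⟶ CommRingCat.of B) (_ : Spec.map b ≫ hW.fromSpec = k.left),
      p.comp c = b.hom → P ≫ G = k := by
    intro P p hP c G hG k b hb hpc
    refine Over.OverMorphism.ext ?_
    rw [Over.comp_left, hP, hG, ← hb, ← Spec.map_comp_assoc, ← CommRingCat.ofHom_comp, hpc]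
    rfl
  have e10 : P0 ≫ G1 = 1 := eval P0 p0 rfl c1 G1 rfl 1 e he rfl
  have e11 : P1 ≫ G1 = g := eval P1 p1 rfl c1 G1 rfl g a ha rfl
  have e12 : P2 ≫ G1 = 1 := eval P2 p2 rfl c1 G1 rfl 1 e he rfl
  have e20 : P0 ≫ G2 = 1 := eval P0 p0 rfl c2 G2 rfl 1 e he rfl
  have e21 : P1 ≫ G2 = 1 := eval P1 p1 rfl c2 G2 rfl 1 e he rfl
  have e22 : P2 ≫ G2 = g' := eval P2 p2 rfl c2 G2 rfl g' a' ha' rfl
  have t1 : T ≫ G1 = g := eval T (total hI) rfl c1 G1 rfl g a ha
    (RingHom.ext fun x => show a.hom x + e.hom x - e.hom x = a.hom x by ring)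
  have t2 : T ≫ G2 = g' := eval T (total hI) rfl c2 G2 rfl g' a' ha'
    (RingHom.ext fun x => show e.hom x + a'.hom x - e.hom x = a'.hom x by ring)
  have key : G1 * G2 = G2 * G1 := by
    have m0 : P0 ≫ (G1 * G2) = P0 ≫ (G2 * G1) := by rw [MonObj.comp_mul, MonObj.comp_mul, e10, e20]
    have m1 : P1 ≫ (G1 * G2) = P1 ≫ (G2 * G1) := by
      rw [MonObj.comp_mul, MonObj.comp_mul, e11, e21, _root_.mul_one, _root_.one_mul]
    have m2 : P2 ≫ (G1 * G2) = P2 ≫ (G2 * G1) := by
      rw [MonObj.comp_mul, MonObj.comp_mul, e12, e22, _root_.mul_one, _root_.one_mul]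
    have hrange : ∀ M : sp ρC ⟶ X, P0 ≫ M = 1 → Set.range M.left.base ⊆ Set.range hW.fromSpec.base := by
      intro M hM
      rintro _ ⟨y, rfl⟩
      obtain ⟨y', rfl⟩ := (Spec.map (CommRingCat.ofHom (p0 (I := I)))).surjective y
      show M.left (P0.left y') ∈ _
      rw [← Scheme.Hom.comp_apply, ← Over.comp_left, hM, hW.range_fromSpec]
      exact hr ⟨_, rfl⟩
    have h12 : P0 ≫ (G1 * G2) = 1 := by rw [MonObj.comp_mul, e10, e20, _root_.mul_one]
    let l1 := IsOpenImmersion.lift hW.fromSpec (G1 * G2).left (hrange _ h12)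
    let l2 := IsOpenImmersion.lift hW.fromSpec (G2 * G1).left (hrange _ (m0 ▸ h12))
    have hl : ∀ (P : sp ρ ⟶ sp ρC) (p : triples I →+* B), P.left = Spec.map (CommRingCat.ofHom p) →
        P ≫ (G1 * G2) = P ≫ (G2 * G1) →
        ∀ x, p ((Spec.preimage l1).hom x) = p ((Spec.preimage l2).hom x) := by
      intro P p hP hPe x
      refine ConcreteCategory.congr_hom (Spec.map_injective (a₁ := Spec.preimage l1 ≫ CommRingCat.ofHom p)
        (a₂ := Spec.preimage l2 ≫ CommRingCat.ofHom p) ?_) x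
      rw [Spec.map_comp, Spec.map_comp, Spec.map_preimage, Spec.map_preimage, ← cancel_mono hW.fromSpec,
        Category.assoc, Category.assoc, IsOpenImmersion.lift_fac, IsOpenImmersion.lift_fac, ← hP]
      exact congrArg Over.Hom.left hPe
    have hpre : Spec.preimage l1 = Spec.preimage l2 := CommRingCat.hom_ext (RingHom.ext fun x =>
      triples_ext (hl P0 p0 rfl m0 x) (hl P1 p1 rfl m1 x) (hl P2 p2 rfl m2 x))
    refine Over.OverMorphism.ext ?_
    rw [← IsOpenImmersion.lift_fac hW.fromSpec (G1 * G2).left (hrange _ h12),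
      ← IsOpenImmersion.lift_fac hW.fromSpec (G2 * G1).left (hrange _ (m0 ▸ h12))]
    show l1 ≫ _ = l2 ≫ _
    rw [← Spec.map_preimage l1, ← Spec.map_preimage l2, hpre]
  have := congrArg (T ≫ ·) key
  simpa [MonObj.comp_mul, t1, t2] using this

end Groth.Agent.SqKer

namespace Groth.Agent.SqKer

variable {R : Type u} [CommRing R] {X : Over (Spec (CommRingCat.of R))} [GrpObj X]

theorem comm (J : Ideal R) (hJ : J * J = ⊥) {Y : Over (Spec (CommRingCat.of R))} (g g' : Y ⟶ X)
    (hg : (Over.pullback (Spec.map (CommRingCat.ofHom (Ideal.Quotient.mk J)))).map g = 1)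
    (hg' : (Over.pullback (Spec.map (CommRingCat.ofHom (Ideal.Quotient.mk J)))).map g' = 1) :
    g * g' = g' * g := by
  let q := Spec.map (CommRingCat.ofHom (Ideal.Quotient.mk J))
  have hq : ∀ k : Y ⟶ X, (Over.pullback q).map k = 1 →
      pullback.fst Y.hom q ≫ k.left = pullback.fst Y.hom q ≫ (1 : Y ⟶ X).left := by
    intro k hk
    have h1 : (Over.pullback q).map k = (Over.pullback q).map (1 : Y ⟶ X) :=
      hk.trans (map_one ((Over.pullback q).homMonoidHom)).symm
    have := congrArg (fun φ => Over.Hom.left φ ≫ pullback.fst X.hom q) h1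
    dsimp at this
    erw [pullback.lift_fst, pullback.lift_fst] at this
    exact this
  have hloc : ∀ y : Y.left, ∃ V : Y.left.Opens, y ∈ V ∧ IsAffineOpen V ∧ ∃ W : X.left.Opens, IsAffineOpen W ∧
      V ≤ (1 : Y ⟶ X).left ⁻¹ᵁ W := by
    intro y
    obtain ⟨W, hW, hyW, -⟩ := exists_isAffineOpen_mem_and_subset (X := X.left) (x := (1 : Y ⟶ X).left y) (U := ⊤) trivial
    obtain ⟨V, hV, hyV, hVW⟩ := exists_isAffineOpen_mem_and_subset (X := Y.left) (x := y)
      (U := (1 : Y ⟶ X).left ⁻¹ᵁ W) hyW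
    exact ⟨V, hyV, hV, W, hW, hVW⟩
  choose V hyV hV W hW hVW using hloc
  refine Over.OverMorphism.ext (Scheme.Cover.hom_ext (Y.left.openCoverOfIsOpenCover V
    (eq_top_iff.mpr fun y _ => TopologicalSpace.Opens.mem_iSup.mpr ⟨y, hyV y⟩)) _ _ fun y => ?_)
  show (V y).ι ≫ _ = (V y).ι ≫ _
  let ρ : R →+* Γ(Y.left, V y) := (Spec.preimage ((hV y).fromSpec ≫ Y.hom)).hom
  have hρ : Spec.map (CommRingCat.ofHom ρ) = (hV y).fromSpec ≫ Y.hom := Spec.map_preimage _
  let m : sp ρ ⟶ Y := Over.homMk (hV y).fromSpec hρ.symm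
  let I : Ideal Γ(Y.left, V y) := J.map ρ
  have hI : ∀ a ∈ I, ∀ b ∈ I, a * b = 0 := fun a ha b hb => by
    have := Ideal.mul_mem_mul ha hb
    rwa [← Ideal.map_mul, hJ, Ideal.map_bot, Ideal.mem_bot] at this
  have hc : (Spec.map (CommRingCat.ofHom (Ideal.Quotient.mk I)) ≫ (hV y).fromSpec) ≫ Y.hom =
      Spec.map (CommRingCat.ofHom (Ideal.quotientMap I ρ Ideal.le_comap_map)) ≫ q := by
    rw [Category.assoc, ← hρ, ← Spec.map_comp, ← Spec.map_comp]
    congr 1
  have hk : ∀ k : Y ⟶ X, pullback.fst Y.hom q ≫ k.left = pullback.fst Y.hom q ≫ (1 : Y ⟶ X).left →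
      Spec.map (CommRingCat.ofHom (Ideal.Quotient.mk I)) ≫ (m ≫ k).left =
        Spec.map (CommRingCat.ofHom (Ideal.Quotient.mk I)) ≫ (1 : sp ρ ⟶ X).left := by
    intro k hk
    rw [← MonObj.comp_one m, Over.comp_left, Over.comp_left]
    have := congrArg (pullback.lift _ _ hc ≫ ·) hk
    simpa [m] using this
  have h := comm_local hI ρ (m ≫ g) (m ≫ g') (W y) (hW y) (by
      rintro _ ⟨z, rfl⟩
      rw [← MonObj.comp_one m, Over.comp_left, Scheme.Hom.comp_apply]
      refine hVW y ?_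
      rw [← SetLike.mem_coe, ← (hV y).range_fromSpec]
      exact ⟨z, rfl⟩)
    (hk g (hq g hg)) (hk g' (hq g' hg'))
  rw [← MonObj.comp_mul, ← MonObj.comp_mul] at h
  have h' := congrArg Over.Hom.left h
  rw [Over.comp_left, Over.comp_left] at h'
  rw [← cancel_epi (hV y).isoSpec.inv]
  rw [← Category.assoc, ← Category.assoc, IsAffineOpen.isoSpec_inv_ι]
  exact h'

end Groth.Agent.SqKer
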